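import Cfsg.Agent.Lib.Solvable.Hall
import Cfsg.Agent.Lib.Solvable.Basic

/-!
The three primes lemma: a finite solvable group whose order is divisible by three primes has
an element whose order is the product of two of them.
-/

set_option autoImplicit false

namespace Cfsg.Agent.PrimeGraph

open Subgroup
open scoped Pointwise

/-- `p` and `q` are not adjacent in the prime graph. -/
def NonAdj (G : Type*) [Group G] (p q : ℕ) : Prop := ∀ x : G, orderOf x ≠ p * q

theorem NonAdj.symm {G : Type*} [Group G] {p q : ℕ} (h : NonAdj G p q) : NonAdj G q p :=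
  fun x hx => h x (by rw [hx, mul_comm])

theorem NonAdj.subgroup {G : Type*} [Group G] {p q : ℕ} (h : NonAdj G p q) (H : Subgroup G) :
    NonAdj H p q := fun x hx => h x (by rw [Subgroup.orderOf_coe, hx])

theorem NonAdj.quotient {G : Type*} [Group G] [Finite G] {p q : ℕ} (hp : p.Prime) (hq : q.Prime)
    (h : NonAdj G p q) (N : Subgroup G) [N.Normal] : NonAdj (G ⧸ N) p q := by
  intro x hx
  obtain ⟨y, rfl⟩ := QuotientGroup.mk'_surjective N x
  obtain ⟨c, hc⟩ : p * q ∣ orderOf y := hx ▸ orderOf_map_dvd _ y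
  have hpos : 0 < c := Nat.pos_of_mul_pos_left (hc ▸ orderOf_pos y)
  exact h (y ^ c) (by rw [orderOf_pow' y hpos.ne', hc, Nat.gcd_mul_left_left, Nat.mul_div_cancel _ hpos])

/-- Fixed-point lemma for a group with a normal subgroup `A` and an element `b` all of whose
translates `α * b` have order `q`. -/
theorem eq_one_of_fpf {F V : Type*} [Group F] [CommGroup V] (φ : F →* MulAut V) (A : Subgroup F)
    [Fintype A] [A.Normal] (q : ℕ) (hq : q.Prime) (b : F)
    (hord : ∀ α : A, orderOf ((α : F) * b) = q)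
    (hA : ∀ v, (∀ α : A, φ α v = v) → v = 1)
    (hb : ∀ (α : A) v, φ ((α : F) * b) v = v → v = 1)
    (v : V) : v ^ Fintype.card A = 1 := by
  have hnorm : ∀ w : V, ∏ α : A, φ α w = 1 := fun w => hA _ fun β => by
    rw [map_prod]
    refine Fintype.prod_equiv (Equiv.mulLeft β) _ _ fun α => ?_
    simp
  have hbnorm : ∀ α : A, ∏ j ∈ Finset.range q, φ (((α : F) * b) ^ j) v = 1 := fun α => by
    refine hb α _ ?_
    rw [map_prod]
    have e : ∀ j, φ ((α : F) * b) (φ (((α : F) * b) ^ j) v) = φ (((α : F) * b) ^ (j + 1)) v :=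
      fun j => by rw [pow_succ', map_mul φ _ (_ ^ j), MulAut.mul_apply]
    rw [Finset.prod_congr rfl fun j _ => e j]
    obtain ⟨k, hk⟩ : ∃ k, q = k + 1 := ⟨q - 1, by have := hq.pos; omega⟩
    rw [hk, Finset.prod_range_succ, Finset.prod_range_succ'
      (fun j => φ (((α : F) * b) ^ j) v) k]
    rw [← hk, ← hord α, pow_orderOf_eq_one, pow_zero]
  have htot : ∏ α : A, ∏ j ∈ Finset.range q, φ (((α : F) * b) ^ j) v = 1 :=
    Finset.prod_eq_one fun α _ => hbnorm α
  rw [Finset.prod_comm] at htot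
  have hrest : ∀ j ∈ Finset.range q, j ≠ 0 → ∏ α : A, φ (((α : F) * b) ^ j) v = 1 := by
    intro j hj hj0
    rw [Finset.mem_range] at hj
    have hmem : ∀ α : A, ((α : F) * b) ^ j * (b ^ j)⁻¹ ∈ A := fun α => by
      rw [← QuotientGroup.eq_one_iff, QuotientGroup.mk_mul, QuotientGroup.mk_pow,
        QuotientGroup.mk_mul, QuotientGroup.mk_inv, QuotientGroup.mk_pow,
        (QuotientGroup.eq_one_iff _).2 α.2, one_mul, mul_inv_cancel]
    let f : A → A := fun α => ⟨((α : F) * b) ^ j * (b ^ j)⁻¹, hmem α⟩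
    have hf : Function.Bijective f := by
      refine Finite.injective_iff_bijective.1 fun α α' h => ?_
      have h1 : ((α : F) * b) ^ j = ((α' : F) * b) ^ j :=
        mul_right_cancel (congrArg Subtype.val h)
      obtain ⟨i, hi⟩ : ∃ i, j * i % q = 1 := by
        have hco : Nat.Coprime j q :=
          ((Nat.Prime.coprime_iff_not_dvd hq).2
            (Nat.not_dvd_of_pos_of_lt (Nat.pos_of_ne_zero hj0) hj)).symm
        obtain ⟨i, hi, hi'⟩ := Nat.exists_mul_mod_eq_one_of_coprime hco hq.one_lt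
        exact ⟨i, hi'⟩
      have h2 : ∀ γ : A, (((γ : F) * b) ^ j) ^ i = (γ : F) * b := fun γ => by
        rw [← pow_mul, ← pow_mod_orderOf, hord γ, hi, pow_one]
      exact Subtype.ext (mul_right_cancel ((h2 α).symm.trans (by rw [h1, h2 α'])))
    calc ∏ α : A, φ (((α : F) * b) ^ j) v
        = ∏ α : A, φ (f α) (φ (b ^ j) v) := Finset.prod_congr rfl fun α _ => by
          rw [← MulAut.mul_apply, ← map_mul]
          simp [f]
      _ = ∏ β : A, φ β (φ (b ^ j) v) :=
          hf.prod_comp fun β : A => φ β (φ (b ^ j) v)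
      _ = 1 := hnorm _
  rw [Finset.prod_eq_single 0 hrest (fun h => absurd (Finset.mem_range.2 hq.pos) h)] at htot
  simpa using htot

/-- Fixed-point-free consequence on an `s`-group: it is trivial. -/
theorem forall_eq_one_of_fpf {F V : Type*} [Group F] [Finite F] [CommGroup V] (φ : F →* MulAut V)
    (A : Subgroup F) [A.Normal] {p q s : ℕ} (hp : p.Prime) (hq : q.Prime) (hs : s.Prime) (hsp : s ≠ p)
    (hA0 : A ≠ ⊥) (hAe : ∀ x ∈ A, x ^ p = 1) (b : F) (hord : ∀ α : A, orderOf ((α : F) * b) = q)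
    (hfix : ∀ x : F, (orderOf x).Prime → ∀ v, φ x v = v → v = 1)
    (hV : IsPGroup s V) (v : V) : v = 1 := by
  obtain ⟨α₀, hα₀⟩ := (Subgroup.ne_bot_iff_exists_ne_one).1 hA0
  have hpf := Fact.mk hp
  have hsf := Fact.mk hs
  have hf := Fintype.ofFinite A
  have ho : orderOf (α₀ : F) = p := orderOf_eq_prime (hAe _ α₀.2) fun h => hα₀ (Subtype.ext h)
  have h1 := orderOf_dvd_of_pow_eq_one (eq_one_of_fpf φ A q hq b hord
    (fun w hw => hfix α₀ (by rw [ho]; exact hp) w (hw α₀))
    (fun α w hw => hfix _ (by rw [hord α]; exact hq) w hw) v)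
  have hAp : IsPGroup p A := fun x => ⟨1, Subtype.ext (by simpa using hAe x x.2)⟩
  obtain ⟨i, hi⟩ := hAp.exists_card_eq
  obtain ⟨j, hj⟩ := IsPGroup.iff_orderOf.1 hV v
  rw [hj, ← Nat.card_eq_fintype_card, hi] at h1
  refine orderOf_eq_one_iff.1 ?_
  rw [hj]
  exact Nat.eq_one_of_dvd_coprimes (((Nat.coprime_primes hs hp).2 hsp).pow j i) dvd_rfl h1

/-- The three primes lemma. -/
theorem three_primes {G : Type*} [Group G] [Finite G] [Group.IsSolvable G] {p q r : ℕ}
    (hp : p.Prime) (hq : q.Prime) (hr : r.Prime) (hpq : p ≠ q) (hpr : p ≠ r) (hqr : q ≠ r)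
    (hpG : p ∣ Nat.card G) (hqG : q ∣ Nat.card G) (hrG : r ∣ Nat.card G)
    (npq : NonAdj G p q) (npr : NonAdj G p r) (nqr : NonAdj G q r) : False := by
  suffices H : ∀ (k : ℕ) (G : Type _) [Group G] [Finite G] [Group.IsSolvable G], Nat.card G = k →
      p ∣ Nat.card G → q ∣ Nat.card G → r ∣ Nat.card G →
      NonAdj G p q → NonAdj G p r → NonAdj G q r → False from
    H _ G rfl hpG hqG hrG npq npr nqr
  clear hpG hqG hrG npq npr nqr
  intro k
  induction k using Nat.strong_induction_on with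
  | _ k ih =>
  intro G _ _ _ hk hpG hqG hrG npq npr nqr
  have : Nontrivial G := by
    rw [← Finite.one_lt_card_iff_nontrivial]
    exact lt_of_lt_of_le hp.one_lt (Nat.le_of_dvd Nat.card_pos hpG)
  obtain ⟨V, s, hVn, -, hV, hVmin, hVc, hs, hVs⟩ :=
    Solvable.exists_abelian_minimal_normal (K := (⊤ : Subgroup G)) inferInstance
      (fun h => by
        have := subsingleton_of_bot_eq_top h.symm
        exact not_subsingleton G ((Subgroup.subsingleton_iff).1 this))
  have hsfact := Fact.mk hs
  obtain ⟨e, he⟩ := hVs.exists_card_eq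
  have hmul : Nat.card G = Nat.card (G ⧸ V) * Nat.card V := card_eq_card_quotient_mul_card_subgroup V
  -- if `s` is not one of the three primes, pass to the quotient
  by_cases hsρ : s ≠ p ∧ s ≠ q ∧ s ≠ r
  · have hd : ∀ t : ℕ, t.Prime → s ≠ t → t ∣ Nat.card G → t ∣ Nat.card (G ⧸ V) := by
      intro t ht hst htG
      rw [hmul, he] at htG
      exact (ht.dvd_mul.1 htG).resolve_right fun h =>
        hst ((Nat.prime_dvd_prime_iff_eq ht hs).1 (ht.dvd_of_dvd_pow h)).symm
    exact ih _ (hk ▸ hmul ▸ lt_mul_of_one_lt_right Nat.card_pos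
        ((Subgroup.one_lt_card_iff_ne_bot V).2 hV)) (G ⧸ V) rfl
      (hd p hp hsρ.1 hpG) (hd q hq hsρ.2.1 hqG) (hd r hr hsρ.2.2 hrG)
      (npq.quotient hp hq V) (npr.quotient hp hr V) (nqr.quotient hq hr V)
  -- otherwise `V` and a Hall subgroup for the other two primes give a contradiction
  have key : ∀ a b : ℕ, a.Prime → b.Prime → a ≠ b → a ≠ s → b ≠ s →
      a ∣ Nat.card G → b ∣ Nat.card G → NonAdj G a b → NonAdj G a s → NonAdj G b s → False := by
    intro a b ha hb hab has hbs haG hbG nab nas nbs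
    have hG0 : Nat.card G ≠ 0 := Nat.card_pos.ne'
    set m := a ^ (Nat.card G).factorization a * b ^ (Nat.card G).factorization b with hm
    have hdm : m ∣ Nat.card G := Nat.Coprime.mul_dvd_of_dvd_of_dvd
      (((Nat.coprime_primes ha hb).2 hab).pow _ _) (Nat.ordProj_dvd _ _) (Nat.ordProj_dvd _ _)
    obtain ⟨n, hn⟩ := hdm
    have hanot : ∀ t : ℕ, t.Prime → t ^ (Nat.card G).factorization t ∣ m → ¬ t ∣ n := by
      intro t ht htm htn
      have : t ^ ((Nat.card G).factorization t + 1) ∣ Nat.card G := by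
        rw [pow_succ]; exact (mul_dvd_mul htm htn).trans (dvd_of_eq hn.symm)
      exact Nat.pow_succ_factorization_not_dvd hG0 ht this
    have hmn : m.Coprime n := Nat.Coprime.mul_left
      (((ha.coprime_iff_not_dvd).2 (hanot a ha (dvd_mul_right _ _))).pow_left _)
      (((hb.coprime_iff_not_dvd).2 (hanot b hb (dvd_mul_left _ _))).pow_left _)
    obtain ⟨H, hH⟩ := Solvable.exists_hall hn hmn
    have hfa : (Nat.card G).factorization a ≠ 0 :=
      (Nat.Prime.factorization_pos_of_dvd ha hG0 haG).ne'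
    have hfb : (Nat.card G).factorization b ≠ 0 :=
      (Nat.Prime.factorization_pos_of_dvd hb hG0 hbG).ne'
    have haH : a ∣ Nat.card H := hH ▸ (dvd_pow_self a hfa).trans (dvd_mul_right _ _)
    have hbH : b ∣ Nat.card H := hH ▸ (dvd_pow_self b hfb).trans (dvd_mul_left _ _)
    have hprimes : ∀ t : ℕ, t.Prime → t ∣ Nat.card H → t = a ∨ t = b := fun t ht h => by
      rw [hH] at h
      rcases ht.dvd_mul.1 h with h | h
      · exact Or.inl ((Nat.prime_dvd_prime_iff_eq ht ha).1 (ht.dvd_of_dvd_pow h))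
      · exact Or.inr ((Nat.prime_dvd_prime_iff_eq ht hb).1 (ht.dvd_of_dvd_pow h))
    have := Fact.mk hs
    let : CommGroup V := { (inferInstance : Group V) with mul_comm := fun x y => mul_comm' x y }
    let φ : H →* MulAut V := (MulAut.conjNormal (H := V)).comp H.subtype
    -- elements of prime order in `H` fix nothing
    have hfix : ∀ x : H, (orderOf x).Prime → ∀ v : V, φ x v = v → v = 1 := by
      intro x hx v hv
      by_contra hv1
      obtain ⟨j, hj⟩ : ∃ j, orderOf (v : G) = s ^ j := by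
        obtain ⟨j, hj⟩ := IsPGroup.iff_orderOf.1 hVs v
        exact ⟨j, by rw [Subgroup.orderOf_coe, hj]⟩
      have hj0 : j ≠ 0 := fun h0 => hv1 (Subtype.ext (orderOf_eq_one_iff.1 (by rw [hj, h0, pow_zero])))
      obtain ⟨j, rfl⟩ := Nat.exists_eq_succ_of_ne_zero hj0
      have hv2 : orderOf ((v : G) ^ s ^ j) = s := by
        rw [orderOf_pow' _ (pow_pos hs.pos j).ne', hj, pow_succ,
          Nat.gcd_mul_right_left, Nat.mul_div_cancel_left _ (pow_pos hs.pos j)]
      have hcomm : Commute (x : G) v := by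
        have := congrArg Subtype.val hv
        simp only [φ, MonoidHom.comp_apply, MulAut.conjNormal_apply, Subgroup.coe_subtype] at this
        exact mul_inv_eq_iff_eq_mul.1 this
      have hxo : orderOf (x : G) = orderOf x := Subgroup.orderOf_coe x
      have hxs : orderOf x ≠ s := by
        rcases hprimes _ hx (orderOf_dvd_natCard x) with h | h <;> rw [h] <;> assumption
      have hprod : orderOf ((x : G) * (v : G) ^ s ^ j) = orderOf x * s := by
        rw [(hcomm.pow_right _).orderOf_mul_eq_mul_orderOf_of_coprime, hxo, hv2]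
        rw [hxo, hv2]
        exact (Nat.coprime_primes hx hs).2 hxs
      rcases hprimes _ hx (orderOf_dvd_natCard x) with h | h <;> rw [h] at hprod
      · exact nas _ hprod
      · exact nbs _ hprod
    have hHnt : (⊤ : Subgroup H) ≠ ⊥ := fun h => by
      have := congrArg (fun K : Subgroup H => Nat.card K) h
      simp only [Subgroup.card_top, Subgroup.card_bot] at this
      rw [this] at haH
      exact ha.ne_one (Nat.dvd_one.1 haH)
    obtain ⟨W, t, hWn, -, hW, hWmin, hWc, ht, hWt⟩ :=
      Solvable.exists_abelian_minimal_normal (K := (⊤ : Subgroup H)) inferInstance hHnt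
    obtain ⟨p', hp', hWe, -⟩ := Solvable.exists_prime_of_minimal (N := W) hW hWmin
    obtain ⟨w, hw⟩ := (Subgroup.ne_bot_iff_exists_ne_one).1 hW
    have hwo : orderOf (w : H) = p' := by
      have := Fact.mk hp'
      exact orderOf_eq_prime (hWe _ w.2) fun h => hw (Subtype.ext h)
    have hp'ab : p' = a ∨ p' = b := hprimes p' hp' (hwo ▸ orderOf_dvd_natCard (w : H))
    obtain ⟨v, hv⟩ := (Subgroup.ne_bot_iff_exists_ne_one).1 hV
    apply hv
    have hsp : s ≠ p' := by rcases hp'ab with h | h <;> rw [h] <;> exact Ne.symm (by assumption)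
    by_cases hcyc : ∀ x ∈ W, x ∈ Subgroup.zpowers (w : H)
    · -- `W` has prime order; use an element of the other prime order
      have hWw : W = Subgroup.zpowers (w : H) :=
        le_antisymm hcyc ((Subgroup.zpowers_le).2 w.2)
      have hWcard : Nat.card W = p' := by rw [hWw, Nat.card_zpowers, hwo]
      obtain ⟨l, hl, hlp, hlH, hnl⟩ : ∃ l : ℕ, l.Prime ∧ l ≠ p' ∧ l ∣ Nat.card H ∧ NonAdj G p' l := by
        rcases hp'ab with h | h
        · exact ⟨b, hb, by rw [h]; exact hab.symm, hbH, h ▸ nab⟩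
        · exact ⟨a, ha, by rw [h]; exact hab, haH, h ▸ nab.symm⟩
      have := Fact.mk hl
      obtain ⟨c, hc⟩ := exists_prime_orderOf_dvd_card' l hlH
      have hcW : c ∉ W := fun h => by
        have h2 : orderOf (⟨c, h⟩ : W) ∣ Nat.card W := orderOf_dvd_natCard _
        rw [← Subgroup.orderOf_coe, hc, hWcard, Nat.prime_dvd_prime_iff_eq hl hp'] at h2
        exact hlp h2
      refine forall_eq_one_of_fpf φ W hp' hl hs hsp hW hWe c (fun α => ?_) hfix hVs v
      have hq1 : ((α : H) * c : H) ∉ W := fun h => hcW ((mul_mem_cancel_left α.2).1 h)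
      have hpow : ((α : H) * c) ^ l ∈ W := by
        rw [← QuotientGroup.eq_one_iff, QuotientGroup.mk_pow, QuotientGroup.mk_mul,
          (QuotientGroup.eq_one_iff _).2 α.2, one_mul, ← QuotientGroup.mk_pow, ← hc,
          pow_orderOf_eq_one, QuotientGroup.mk_one]
      have hdvd : orderOf ((α : H) * c) ∣ l * p' :=
        orderOf_dvd_of_pow_eq_one (by rw [pow_mul]; exact hWe _ hpow)
      have hcases : orderOf ((α : H) * c) = 1 ∨ orderOf ((α : H) * c) = l ∨
          orderOf ((α : H) * c) = p' ∨ orderOf ((α : H) * c) = l * p' := by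
        obtain ⟨y, z, hy, hz, e⟩ := Nat.dvd_mul.1 hdvd
        rw [← e]
        rcases (Nat.dvd_prime hl).1 hy with rfl | rfl <;>
          rcases (Nat.dvd_prime hp').1 hz with rfl | rfl <;> simp
      rcases hcases with h | h | h | h
      · exact absurd (orderOf_eq_one_iff.1 h) fun h1 => hq1 (h1 ▸ one_mem W)
      · exact h
      · exfalso
        refine hcW ?_
        have hx : ((QuotientGroup.mk c : H ⧸ W)) ^ p' = 1 := by
          have : ((α : H) * c) ^ p' = 1 := h ▸ pow_orderOf_eq_one _
          have := congrArg (QuotientGroup.mk (s := W)) this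
          rwa [QuotientGroup.mk_pow, QuotientGroup.mk_mul, (QuotientGroup.eq_one_iff _).2 α.2,
            one_mul] at this
        have hx' : ((QuotientGroup.mk c : H ⧸ W)) ^ l = 1 := by
          rw [← QuotientGroup.mk_pow, ← hc, pow_orderOf_eq_one]; rfl
        rw [← QuotientGroup.eq_one_iff]
        have := (pow_gcd_eq_one (a := (QuotientGroup.mk c : H ⧸ W))).2 ⟨hx, hx'⟩
        rwa [(Nat.coprime_primes hp' hl).2 hlp.symm, pow_one] at this
      · exact absurd (by rw [Subgroup.orderOf_coe, h, mul_comm] :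
          orderOf (((α : H) * c : H) : G) = p' * l) (hnl _)
    · -- `W` is not cyclic
      push Not at hcyc
      obtain ⟨c, hcW, hcw⟩ := hcyc
      let w₀ : W := ⟨(w : H), w.2⟩
      have hp'f := Fact.mk hp'
      have hordW : ∀ x : W, x ≠ 1 → orderOf x = p' := fun x hx =>
        orderOf_eq_prime (Subtype.ext (by simpa using hWe x x.2)) hx
      have hne : ∀ α : Subgroup.zpowers w₀, (α : W) * ⟨c, hcW⟩ ≠ 1 := fun α h => hcw (by
        obtain ⟨i, hi⟩ := Subgroup.inv_mem _ α.2
        have hi' : w₀ ^ i = (⟨c, hcW⟩ : W) := hi.trans (eq_inv_of_mul_eq_one_right h).symm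
        exact ⟨i, congrArg Subtype.val hi'⟩)
      refine forall_eq_one_of_fpf (φ.comp W.subtype) (Subgroup.zpowers w₀) hp' hp' hs hsp
        (by rw [Ne, Subgroup.zpowers_eq_bot]; exact hw)
        (fun x _ => Subtype.ext (by simpa using hWe x x.2)) ⟨c, hcW⟩
        (fun α => hordW _ (hne α))
        (fun x hx u hu => hfix (W.subtype x) ?_ u hu) hVs v
      rw [Subgroup.coe_subtype, Subgroup.orderOf_coe]
      exact hx
  have hs3 : s = p ∨ s = q ∨ s = r := by tauto
  rcases hs3 with rfl | rfl | rfl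
  · exact key q r hq hr hqr hpq.symm hpr.symm hqG hrG nqr npq.symm npr.symm
  · exact key p r hp hr hpr hpq hqr.symm hpG hrG npr npq nqr.symm
  · exact key p q hp hq hpq hpr hqr hpG hqG npq npr nqr

/-- A solvable normal subgroup extended by a solvable subgroup normalising it is solvable. -/
theorem isSolvable_sup_of_le_normalizer {G : Type*} [Group G] (A B : Subgroup G)
    [Group.IsSolvable A] [Group.IsSolvable B] (h : B ≤ normalizer (A : Set G)) :
    Group.IsSolvable ↥(A ⊔ B) := by
  have hn : (A.subgroupOf (A ⊔ B)).Normal :=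
    normal_subgroupOf_of_le_normalizer (sup_le le_normalizer h)
  let i : B →* ↥(A ⊔ B) := Subgroup.inclusion le_sup_right
  let π := (QuotientGroup.mk' (A.subgroupOf (A ⊔ B))).comp i
  have hsurj : Function.Surjective π := by
    intro x
    obtain ⟨⟨y, hy⟩, rfl⟩ := QuotientGroup.mk'_surjective _ x
    have hy' : y ∈ ((A : Set G) * (B : Set G)) := by
      rw [← Subgroup.coe_mul_of_right_le_normalizer_left A B h]; exact hy
    obtain ⟨a, ha, c, hc, rfl⟩ := hy'
    refine ⟨⟨c, hc⟩, ?_⟩
    refine (QuotientGroup.eq (s := A.subgroupOf (A ⊔ B))).2 ?_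
    show c⁻¹ * (a * c) ∈ A
    rw [← mul_assoc]
    have := (mem_normalizer_iff.1 ((normalizer (A : Set G)).inv_mem (h hc)) a).1 ha
    simpa using this
  have hA : Group.IsSolvable (A.subgroupOf (A ⊔ B)) :=
    Group.isSolvable_of_isSolvable_injective (f := (subgroupOfEquivOfLe (le_sup_left (b := B))).toMonoidHom)
      (subgroupOfEquivOfLe le_sup_left).injective
  have hQ : Group.IsSolvable (↥(A ⊔ B) ⧸ A.subgroupOf (A ⊔ B)) :=
    Group.isSolvable_of_surjective hsurj
  exact Group.isSolvable_of_ker_le_range (A.subgroupOf (A ⊔ B)).subtype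
    (QuotientGroup.mk' (A.subgroupOf (A ⊔ B))) (by simp)

end Cfsg.Agent.PrimeGraph
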