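import Mathlib

/-!
Semidirect products `V^k ⋊ Q` with `V` an elementary abelian `r`-group: element orders,
and arbitrarily large groups with a prescribed prime graph.
-/

set_option autoImplicit false

namespace Cfsg.Agent.PrimeGraph

/-- Two groups have the same prime graph. -/
def SameGraph (L H : Type*) [Group L] [Group H] : Prop :=
  (∀ p : ℕ, p.Prime → (p ∣ Nat.card L ↔ p ∣ Nat.card H)) ∧
    (∀ p q : ℕ, p.Prime → q.Prime → p ≠ q →
      ((∃ g : L, orderOf g = p * q) ↔ (∃ g : H, orderOf g = p * q)))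

theorem sameGraph_of_mulEquiv {L H H' : Type*} [Group L] [Group H] [Group H'] (e : H ≃* H')
    (h : SameGraph L H) : SameGraph L H' := by
  refine ⟨fun p hp => ?_, fun p q hp hq hpq => ?_⟩
  · rw [h.1 p hp, Nat.card_congr e.toEquiv]
  · rw [h.2 p q hp hq hpq]
    constructor
    · rintro ⟨g, hg⟩; exact ⟨e g, by rw [e.orderOf_eq, hg]⟩
    · rintro ⟨g, hg⟩; exact ⟨e.symm g, by rw [e.symm.orderOf_eq, hg]⟩

theorem sameGraph_of_mulEquiv_left {L L' H : Type*} [Group L] [Group L'] [Group H] (e : L ≃* L')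
    (h : SameGraph L H) : SameGraph L' H := by
  refine ⟨fun p hp => ?_, fun p q hp hq hpq => ?_⟩
  · rw [← h.1 p hp, Nat.card_congr e.toEquiv]
  · rw [← h.2 p q hp hq hpq]
    constructor
    · rintro ⟨g, hg⟩; exact ⟨e.symm g, by rw [e.symm.orderOf_eq, hg]⟩
    · rintro ⟨g, hg⟩; exact ⟨e g, by rw [e.orderOf_eq, hg]⟩

/-- Every finite group is isomorphic to one in `Type`. -/
theorem exists_small (H : Type*) [Group H] [Finite H] :
    ∃ (H' : Type) (_ : Group H') (_ : Fintype H'), Nonempty (H ≃* H') := by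
  have : Finite (Shrink.{0} H) := Finite.of_equiv H (equivShrink.{0} H)
  exact ⟨Shrink.{0} H, inferInstance, Fintype.ofFinite _, ⟨Shrink.mulEquiv.symm⟩⟩

variable (Q W : Type*) [Group Q] [AddCommGroup W] [DistribMulAction Q W]

/-- The action of `Q` on the multiplicative copy of a module. -/
def modAut : Q →* MulAut (Multiplicative W) where
  toFun g := AddEquiv.toMultiplicative (DistribMulAction.toAddEquiv W g)
  map_one' := by
    ext x
    show Multiplicative.ofAdd ((1 : Q) • x.toAdd) = x
    simp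
  map_mul' a b := by
    ext x
    show Multiplicative.ofAdd ((a * b) • x.toAdd) =
      Multiplicative.ofAdd (a • (b • x.toAdd))
    rw [mul_smul]

/-- The semidirect product of a module by the acting group. -/
abbrev ModGroup := Multiplicative W ⋊[modAut Q W] Q

variable {Q W}

theorem card_modGroup : Nat.card (ModGroup Q W) = Nat.card W * Nat.card Q := by
  rw [ModGroup, SemidirectProduct.card]
  rfl

instance finite_modGroup [Finite Q] [Finite W] : Finite (ModGroup Q W) :=
  Finite.of_equiv (W × Q) (by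
    exact ((Equiv.prodCongr Multiplicative.ofAdd (Equiv.refl Q)).trans
      SemidirectProduct.equivProd.symm))

theorem orderOf_inl (v : W) :
    orderOf (SemidirectProduct.inl (Multiplicative.ofAdd v) : ModGroup Q W) = addOrderOf v := by
  rw [orderOf_injective _ SemidirectProduct.inl_injective, orderOf_ofAdd_eq_addOrderOf]

theorem orderOf_inr (g : Q) :
    orderOf (SemidirectProduct.inr g : ModGroup Q W) = orderOf g :=
  orderOf_injective _ SemidirectProduct.inr_injective g

theorem orderOf_right_dvd (y : ModGroup Q W) : orderOf y.right ∣ orderOf y := by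
  have := orderOf_map_dvd SemidirectProduct.rightHom y
  simpa using this

/-- The kernel part of `y ^ orderOf y.right`. -/
theorem pow_eq_inl (y : ModGroup Q W) :
    ∃ w : W, y ^ orderOf y.right = SemidirectProduct.inl (Multiplicative.ofAdd w) ∧
      y.right • w = w := by
  have hr : (y ^ orderOf y.right).right = 1 := by
    have : (y ^ orderOf y.right).right = y.right ^ orderOf y.right := by
      simpa using map_pow SemidirectProduct.rightHom y (orderOf y.right)
    rw [this, pow_orderOf_eq_one]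
  refine ⟨((y ^ orderOf y.right).left).toAdd, ?_, ?_⟩
  · ext
    · simp
    · simp [hr]
  · have hc : y * y ^ orderOf y.right = y ^ orderOf y.right * y :=
      (Commute.self_pow y _).eq
    have hl := congrArg SemidirectProduct.left hc
    simp only [SemidirectProduct.mul_left, hr, map_one, MulAut.one_apply] at hl
    rw [mul_comm _ y.left] at hl
    exact congrArg Multiplicative.toAdd (mul_left_cancel hl)

variable {r : ℕ} [hr : Fact r.Prime]

omit hr in
theorem orderOf_dvd_mul (hW : ∀ w : W, r • w = 0) (y : ModGroup Q W) :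
    orderOf y ∣ orderOf y.right * r := by
  obtain ⟨w, hw, -⟩ := pow_eq_inl y
  apply orderOf_dvd_of_pow_eq_one
  rw [pow_mul, hw, ← map_pow, ← ofAdd_nsmul, hW]
  simp

omit hr in
theorem addOrderOf_of_ne_zero {r : ℕ} (hr : r.Prime) (hW : ∀ w : W, r • w = 0) {w : W}
    (hw : w ≠ 0) : addOrderOf w = r := by
  have : Fact r.Prime := ⟨hr⟩
  exact addOrderOf_eq_prime (hW w) hw

/-- An element of `Q` fixing a nonzero vector gives an element of the product order. -/
theorem exists_orderOf_mul (hW : ∀ w : W, r • w = 0) (g : Q) (hg : Nat.Coprime (orderOf g) r)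
    {w : W} (hw : w ≠ 0) (hgw : g • w = w) :
    ∃ y : ModGroup Q W, orderOf y = orderOf g * r := by
  refine ⟨SemidirectProduct.inr g * SemidirectProduct.inl (Multiplicative.ofAdd w), ?_⟩
  have hwo : addOrderOf w = r := addOrderOf_of_ne_zero hr.out hW hw
  rw [Commute.orderOf_mul_eq_mul_orderOf_of_coprime, orderOf_inl, orderOf_inr, hwo]
  · ext
    · show (1 : Multiplicative W) * modAut Q W g (Multiplicative.ofAdd w) =
        Multiplicative.ofAdd w * modAut Q W 1 1
      rw [one_mul, map_one, mul_one]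
      exact congrArg Multiplicative.ofAdd hgw
    · simp
  · rwa [orderOf_inl, orderOf_inr, hwo]

/-- The adjacencies of the semidirect product away from `r` are those of `Q`. -/
theorem exists_orderOf_mul_iff (hW : ∀ w : W, r • w = 0) {p q : ℕ} (hp : p.Prime) (hq : q.Prime)
    (hpq : p ≠ q) (hpr : p ≠ r) (hqr : q ≠ r) :
    (∃ y : ModGroup Q W, orderOf y = p * q) ↔ ∃ g : Q, orderOf g = p * q := by
  constructor
  · rintro ⟨y, hy⟩
    refine ⟨y.right, Nat.dvd_antisymm (hy ▸ orderOf_right_dvd y) ?_⟩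
    have h := hy ▸ orderOf_dvd_mul hW y
    exact (Nat.Coprime.mul_left ((Nat.coprime_primes hp hr.out).2 hpr)
      ((Nat.coprime_primes hq hr.out).2 hqr)).dvd_of_dvd_mul_right h
  · rintro ⟨g, hg⟩
    exact ⟨SemidirectProduct.inr g, by rw [orderOf_inr, hg]⟩

/-- The adjacencies of `r` in the semidirect product. -/
theorem exists_orderOf_mul_r_iff (hW : ∀ w : W, r • w = 0) {p : ℕ} (hp : p.Prime) (hpr : p ≠ r) :
    (∃ y : ModGroup Q W, orderOf y = p * r) ↔
      (∃ g : Q, orderOf g = p * r) ∨
      ∃ g : Q, orderOf g = p ∧ ∃ w : W, w ≠ 0 ∧ g • w = w := by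
  constructor
  · rintro ⟨y, hy⟩
    obtain ⟨w, hw, hfix⟩ := pow_eq_inl y
    have h1 : orderOf y.right ∣ p * r := hy ▸ orderOf_right_dvd y
    have h2 : p * r ∣ orderOf y.right * r := hy ▸ orderOf_dvd_mul hW y
    have h3 : p ∣ orderOf y.right := Nat.dvd_of_mul_dvd_mul_right hr.out.pos h2
    obtain ⟨c, hc⟩ := h3
    have h4 : c ∣ r := Nat.dvd_of_mul_dvd_mul_left hp.pos (hc ▸ h1)
    rcases (Nat.dvd_prime hr.out).1 h4 with h5 | h5
    · right
      subst h5
      rw [mul_one] at hc
      refine ⟨y.right, hc, w, fun e => ?_, hfix⟩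
      subst e
      rw [hc, ofAdd_zero, map_one] at hw
      have := Nat.le_of_dvd hp.pos (hy ▸ orderOf_dvd_of_pow_eq_one hw)
      have := hr.out.two_le
      nlinarith [hp.pos]
    · left
      exact ⟨y.right, by rw [hc, h5]⟩
  · rintro (⟨g, hg⟩ | ⟨g, hg, w, hw, hgw⟩)
    · exact ⟨SemidirectProduct.inr g, by rw [orderOf_inr, hg]⟩
    · obtain ⟨y, hy⟩ := exists_orderOf_mul hW g
        (hg ▸ (Nat.coprime_primes hp hr.out).2 hpr) hw hgw
      exact ⟨y, by rw [hy, hg]⟩

omit hr in
theorem exists_lt_card_pow {V : Type*} [Finite V] (h : 1 < Nat.card V) (N : ℕ) :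
    N < Nat.card (Fin (N + 1) → V) := by
  rw [Nat.card_fun, Nat.card_fin]
  exact lt_of_lt_of_le (Nat.lt_pow_self (by omega))
    (Nat.pow_le_pow_right (by omega) (Nat.le_succ N))

/-- Arbitrarily large groups with the prime graph prescribed by `Q` acting on `V`. -/
theorem exists_large {L : Type*} [Group L] (Q V : Type*) [Group Q] [Finite Q] [AddCommGroup V]
    [Finite V] [Nontrivial V] [DistribMulAction Q V] (r : ℕ) (hr : r.Prime)
    (hV : ∀ v : V, r • v = 0)
    (hcard : ∀ p : ℕ, p.Prime → (p ∣ Nat.card L ↔ (p = r ∨ p ∣ Nat.card Q)))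
    (hne : ∀ p q : ℕ, p.Prime → q.Prime → p ≠ q → p ≠ r → q ≠ r →
      ((∃ g : L, orderOf g = p * q) ↔ ∃ g : Q, orderOf g = p * q))
    (hr' : ∀ p : ℕ, p.Prime → p ≠ r → ((∃ g : L, orderOf g = p * r) ↔
      ((∃ g : Q, orderOf g = p * r) ∨ ∃ g : Q, orderOf g = p ∧ ∃ v : V, v ≠ 0 ∧ g • v = v)))
    (N : ℕ) :
    ∃ (H : Type) (_ : Group H) (_ : Fintype H), N < Nat.card H ∧ SameGraph L H := by
  have : Fact r.Prime := ⟨hr⟩
  have hW : ∀ w : Fin (N + 1) → V, r • w = 0 := fun w => funext fun i => hV (w i)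
  obtain ⟨H, _, _, ⟨e⟩⟩ := exists_small (ModGroup Q (Fin (N + 1) → V))
  refine ⟨H, inferInstance, inferInstance, ?_, sameGraph_of_mulEquiv e ⟨?_, ?_⟩⟩
  · rw [← Nat.card_congr e.toEquiv, card_modGroup]
    exact lt_of_lt_of_le (exists_lt_card_pow Finite.one_lt_card N)
      (Nat.le_mul_of_pos_right _ Nat.card_pos)
  · intro p hp
    rw [hcard p hp, card_modGroup, hp.dvd_mul]
    have hrV : ∀ p : ℕ, p.Prime → (p ∣ Nat.card (Fin (N + 1) → V) ↔ p = r) := by
      intro p hp
      have hpg : IsPGroup r (Multiplicative (Fin (N + 1) → V)) := fun w =>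
        ⟨1, by rw [pow_one]; exact congrArg Multiplicative.ofAdd (hW w.toAdd)⟩
      obtain ⟨n, hn⟩ := IsPGroup.iff_card.1 hpg
      rw [show Nat.card (Fin (N + 1) → V) = r ^ n from hn]
      refine ⟨fun h => (Nat.prime_dvd_prime_iff_eq hp hr).1 (hp.dvd_of_dvd_pow h), ?_⟩
      rintro rfl
      apply dvd_pow_self
      rintro rfl
      have := exists_lt_card_pow (V := V) Finite.one_lt_card N
      rw [show Nat.card (Fin (N + 1) → V) = 1 from hn] at this
      have hN : N = 0 := by omega
      subst hN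
      exact absurd hn (Finite.one_lt_card (α := Fin 1 → V)).ne'
    rw [hrV p hp]
  · intro p q hp hq hpq
    have key : ∀ p : ℕ, p.Prime → p ≠ r →
        ((∃ g : L, orderOf g = p * r) ↔
          ∃ g : ModGroup Q (Fin (N + 1) → V), orderOf g = p * r) := by
      intro p hp hpr
      rw [hr' p hp hpr, exists_orderOf_mul_r_iff hW hp hpr]
      constructor
      · rintro (h | ⟨g, hg, v, hv, hgv⟩)
        · exact Or.inl h
        · exact Or.inr ⟨g, hg, fun _ => v, fun e => hv (congrFun e 0), funext fun _ => hgv⟩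
      · rintro (h | ⟨g, hg, w, hw, hgw⟩)
        · exact Or.inl h
        · obtain ⟨i, hi⟩ := Function.ne_iff.1 hw
          exact Or.inr ⟨g, hg, w i, hi, congrFun hgw i⟩
    by_cases hqr : q = r
    · subst hqr; exact key p hp hpq
    by_cases hpr : p = r
    · subst hpr
      rw [mul_comm]; exact key q hq hqr
    rw [exists_orderOf_mul_iff hW hp hq hpq hpr hqr]
    exact hne p q hp hq hpq hpr hqr

/-- The special case where the group itself acts. -/
theorem exists_large_self (L V : Type*) [Group L] [Finite L] [AddCommGroup V] [Finite V]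
    [Nontrivial V] [DistribMulAction L V] (r : ℕ) (hr : r.Prime) (hV : ∀ v : V, r • v = 0)
    (hrL : r ∣ Nat.card L)
    (hfix : ∀ g : L, (orderOf g).Prime → orderOf g ≠ r →
      (¬ ∃ x : L, orderOf x = orderOf g * r) → ∀ v : V, g • v = v → v = 0) (N : ℕ) :
    ∃ (H : Type) (_ : Group H) (_ : Fintype H), N < Nat.card H ∧ SameGraph L H := by
  refine exists_large L V r hr hV (fun p _ => ⟨Or.inr, ?_⟩) (fun _ _ _ _ _ _ _ => Iff.rfl)
    (fun p hp hpr => ⟨Or.inl, ?_⟩) N
  · rintro (rfl | h)
    · exact hrL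
    · exact h
  · rintro (h | ⟨g, hg, v, hv, hgv⟩)
    · exact h
    · by_contra h
      exact hv (hfix g (hg ▸ hp) (hg ▸ hpr) (hg ▸ h) v hgv)

end Cfsg.Agent.PrimeGraph
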